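import Groth.Agent.Var76.HHPush
import Groth.Agent.ValVan29.PushTwist
import Groth.Agent.Crv77.Degree
import Groth.Agent.Crv77.DegreeInt
import Groth.Agent.QC70.PushClosed
import Groth.Agent.Crv77.RR

/-!
# Euler characteristics and degrees along closed immersions
-/

set_option autoImplicit false
set_option linter.style.haveILetI false

universe u

open CategoryTheory CategoryTheory.Limits AlgebraicGeometry TopologicalSpace

noncomputable section

namespace Groth.Agent.Curves2.Ample

open Groth.Agent.Crv77 Groth.Agent.Var76.LineBundle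

variable (k : Type u) [Field k] {Z X : Scheme.{u}}
  [Z.Over (Spec (CommRingCat.of k))] [X.Over (Spec (CommRingCat.of k))]

/-- The Euler characteristic of a direct image along a closed immersion. -/
theorem euler_push [IsProper (X ↘ Spec (CommRingCat.of k))] (f : Z ⟶ X) [IsClosedImmersion f]
    (hf : f ≫ (X ↘ Spec (CommRingCat.of k)) = Z ↘ Spec (CommRingCat.of k))
    (M : Z.Modules) (hM : Coh.IsCoh M) :
    Curv2.euler k X ((Scheme.Modules.pushforward f).obj M) = Curv2.euler k Z M := by
  haveI := isNoetherian_of_proper k X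
  haveI := hM.1
  refine finsum_congr fun i => ?_
  obtain ⟨e⟩ := Var76.nonempty_hhLin_push f hf M (QC70.isCoh_pushforward f M hM).1 i
  exact congrArg (fun n : ℕ => (-1 : ℤ) ^ i * (n : ℤ)) e.finrank_eq

omit [Z.Over (Spec (CommRingCat.of k))] [X.Over (Spec (CommRingCat.of k))] in
/-- `f_* O ⊗ L = f_* f^* L`. -/
theorem nonempty_push_unit_tensor (f : Z ⟶ X) {L : X.Modules} (hL : PicF.IsInvertible L) :
    Nonempty (CohB1.tensorMod ((Scheme.Modules.pushforward f).obj (Coh.structureModule Z)) L ≅
      (Scheme.Modules.pushforward f).obj ((Scheme.Modules.pullback f).obj L)) :=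
  ⟨ValVan29.projIso f (Coh.structureModule Z) L hL ≪≫
    (Scheme.Modules.pushforward f).mapIso (EGA73.tensUnitLeft _)⟩

/-- The degree of a restriction to a closed subscheme, computed on the ambient scheme. -/
theorem deg_pullback_eq [IsProper (X ↘ Spec (CommRingCat.of k))] [IsLocallyNoetherian Z]
    (f : Z ⟶ X) [IsClosedImmersion f]
    (hf : f ≫ (X ↘ Spec (CommRingCat.of k)) = Z ↘ Spec (CommRingCat.of k))
    {L : X.Modules} (hL : PicF.IsInvertible L) :
    Curv2.deg k Z ((Scheme.Modules.pullback f).obj L) 1 =
      Curv2.euler k X (CohB1.tensorMod ((Scheme.Modules.pushforward f).obj (Coh.structureModule Z)) L) -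
        Curv2.euler k X ((Scheme.Modules.pushforward f).obj (Coh.structureModule Z)) := by
  obtain ⟨e⟩ := nonempty_push_unit_tensor f hL
  rw [euler_congr e, euler_push k f hf _ (isCoh_of_isInvertible (Amp73.isInvertible_pullback f hL)),
    euler_push k f hf _ isCoh_structureModule]
  simp [Curv2.deg]

omit [Field k] [Z.Over (Spec (CommRingCat.of k))] [X.Over (Spec (CommRingCat.of k))] in
/-- Direct image of the structure sheaf along an isomorphism. -/
theorem nonempty_push_iso {Z' : Scheme.{u}} (φ : Z' ⟶ Z) [IsIso φ] (f : Z ⟶ X) (f' : Z' ⟶ X)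
    (hf : φ ≫ f = f') :
    Nonempty ((Scheme.Modules.pushforward f').obj (Coh.structureModule Z') ≅
      (Scheme.Modules.pushforward f).obj (Coh.structureModule Z)) := by
  subst hf
  haveI : IsIso (ClSub.unitToPush φ) := by
    rw [Scheme.Modules.Hom.isIso_iff_isIso_app]
    exact fun U => (ConcreteCategory.isIso_iff_bijective _).2 (ConcreteCategory.bijective_of_isIso (φ.app U))
  exact ⟨((Scheme.Modules.pushforwardComp φ f).app (Coh.structureModule Z')).symm ≪≫
    (Scheme.Modules.pushforward f).mapIso (asIso (ClSub.unitToPush φ)).symm⟩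

end Groth.Agent.Curves2.Ample
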