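import Groth.Agent.Curves2.Ample.ClosedPush
import Groth.Agent.Curves2.CurveComponents
import Groth.Agent.Crv77.PointTwist
import Groth.Agent.QC70.Sections
import Groth.Agent.Crv77.AbsCurve
import Groth.Agent.Crv77.MaxSeries
import Groth.Agent.Props58.DimZero

/-!
# Sections of large powers not vanishing on a chosen component
-/

set_option autoImplicit false
set_option linter.style.haveILetI false

universe u

open CategoryTheory CategoryTheory.Limits AlgebraicGeometry TopologicalSpace

noncomputable section

namespace Groth.Agent.Curves2.Ample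

open Groth.Agent.Crv77 Groth.Agent.Var76.LineBundle Groth.Agent.Var76.ZeroScheme

variable {X : Scheme.{u}}

/-- Off the support every function lies in the ideal. -/
theorem toSubscheme_eq_zero_of_disjoint (I : X.IdealSheafData) {U : X.Opens}
    (hU : ∀ y ∈ U, y ∉ (I.support : Set X)) (a : Γ(X, U)) :
    (ClSub.toSubscheme I).app U (a : Γ(Coh.structureModule X, U)) = 0 := by
  have hsub : Subsingleton Γ(ClSub.quotMod I, U) := by
    change Subsingleton Γ(I.subscheme, I.subschemeι ⁻¹ᵁ U)
    rw [show I.subschemeι ⁻¹ᵁ U = ⊥ from ?_]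
    · infer_instance
    · ext z
      simp only [Scheme.Hom.coe_preimage, Set.mem_preimage, Opens.coe_bot, Set.mem_empty_iff_false, iff_false]
      exact fun hz => hU _ hz (I.range_subschemeι ▸ Set.mem_range_self z)
  exact Subsingleton.elim _ _

/-- A function killed by the reduced ideal vanishes on the closed set. -/
theorem notMem_basicOpen_of_toSubscheme (Z : Closeds X) {U : X.Opens} (a : Γ(X, U))
    (h : (ClSub.toSubscheme (Scheme.IdealSheafData.vanishingIdeal Z)).app U
      (a : Γ(Coh.structureModule X, U)) = 0) {y : X} (hy : y ∈ (Z : Set X)) : y ∉ X.basicOpen a := by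
  intro hya
  obtain ⟨z, rfl⟩ := (range_vanishingIdeal Z).ge hy
  have h1 : z ∈ (Scheme.IdealSheafData.vanishingIdeal Z).subschemeι ⁻¹ᵁ X.basicOpen a := hya
  rw [Scheme.preimage_basicOpen] at h1
  rw [show (Scheme.IdealSheafData.vanishingIdeal Z).subschemeι.app U a = 0 from h,
    Scheme.basicOpen_zero] at h1
  exact h1

/-- A section killed by evaluation at a closed set does not generate on it. -/
theorem notMem_genLocus_of_valueAt {L : X.Modules} (hL : PicF.IsInvertible L) (Z : Closeds X)
    (t : Γ(L, ⊤)) (h : (valueAt (Scheme.IdealSheafData.vanishingIdeal Z) L).app ⊤ t = 0)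
    {y : X} (hy : y ∈ (Z : Set X)) : y ∉ CohB1.genLocus L (Var76.Frames.ofSection L t) := by
  set I := Scheme.IdealSheafData.vanishingIdeal Z
  obtain ⟨U, hyU, -, e, he⟩ := Mero90.exists_affine_frame hL y ⊤ trivial
  obtain ⟨c, hc⟩ := Amp73.exists_coord (Var76.Frames.ofSection L t) he
  intro hyg
  have hyc : y ∈ X.basicOpen c :=
    (Amp73.genLocus_inf_eq_basicOpen _ he hc).le ⟨hyg, hyU⟩
  rw [Var76.Frames.val_ofSection] at hc
  have h2 : (valueAt I L).app U.1 (c • e) = 0 := by
    rw [hc]
    exact (Mero90.app_res _ le_top t).trans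
      ((congrArg (fun z => res _ (le_top : U.1 ≤ ⊤) z) h).trans (map_zero _))
  rw [valueAt_frame, ← Amp73.tm_zero_left e] at h2
  exact notMem_basicOpen_of_toSubscheme Z c
    (Amp73.tm_frame_injective (L := ClSub.quotMod I) he le_rfl _ 0 (by rw [Amp73.res_self]; exact h2)) hy hyc

/-- On a reduced scheme a section generating at no maximal point is zero. -/
theorem eq_zero_of_forall_notMem [IsReduced X] {L : X.Modules} (hL : PicF.IsInvertible L) (t : Γ(L, ⊤))
    (h : ∀ x : X, (∀ x' : X, x' ⤳ x → x' = x) → x ∉ CohB1.genLocus L (Var76.Frames.ofSection L t))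
    (hmax : ∀ y : X, ∃ x : X, (∀ x' : X, x' ⤳ x → x' = x) ∧ x ⤳ y) : t = 0 := by
  refine eq_of_locally L _ _ fun y hy => ?_
  obtain ⟨U, hyU, -, e, he⟩ := Mero90.exists_affine_frame hL y ⊤ trivial
  refine ⟨U.1, le_top, hyU, ?_⟩
  obtain ⟨c, hc⟩ := Amp73.exists_coord (Var76.Frames.ofSection L t) he
  have hc0 : c = 0 := eq_zero_of_basicOpen_eq_bot c (eq_bot_iff.2 fun z hz => by
    obtain ⟨x, hx, hxz⟩ := hmax z
    refine (h x hx ?_).elim
    exact (le_inf_iff.1 (Amp73.genLocus_inf_eq_basicOpen _ he hc).ge).1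
      (hxz.mem_open (X.basicOpen c).2 hz))
  rw [Var76.Frames.val_ofSection, hc0, zero_smul] at hc
  exact hc.symm.trans (map_zero _).symm

/-- Every point generalises to a maximal point. -/
theorem exists_maximal (y : X) : ∃ x : X, (∀ x' : X, x' ⤳ x → x' = x) ∧ x ⤳ y := by
  obtain ⟨x, hx⟩ := QuasiSober.sober (isIrreducible_irreducibleComponent (x := y)) isClosed_irreducibleComponent
  refine ⟨x, fun x' hx' => ?_, hx.specializes mem_irreducibleComponent⟩
  have h1 : irreducibleComponent y ⊆ closure {x'} := by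
    rw [← hx.def]; exact hx'.closure_subset
  have h2 := ((irreducibleComponent_mem_irreducibleComponents y).2 isIrreducible_singleton.closure h1)
  have h3 : closure ({x'} : Set X) = closure {x} := by
    rw [hx.def]; exact Set.Subset.antisymm h2 h1
  exact (Inseparable.eq (inseparable_iff_closure_eq.2 h3))

variable (k : Type u) [Field k] [X.Over (Spec (CommRingCat.of k))]
  [IsProper (X ↘ Spec (CommRingCat.of k))] [IsReduced X]

/-- Powers of an invertible module are eventually nonzero on a component of positive degree. -/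
theorem exists_section_component (hdim : topologicalKrullDim X ≤ 1) {L : X.Modules}
    (hL : PicF.IsInvertible L)
    (hpos : ∀ (Z : Scheme.{u}) (j : Z ⟶ X) [IsClosedImmersion j] [IsIntegral Z],
      topologicalKrullDim Z = 1 →
        0 < @Curv2.deg k _ Z ⟨j ≫ (X ↘ Spec (CommRingCat.of k))⟩ ((Scheme.Modules.pullback j).obj L) 1)
    {η : X} (hη : ∀ x' : X, x' ⤳ η → x' = η) :
    ∃ N : ℕ, ∀ n, N ≤ n → ∃ t : Γ(CohB1.tensorPow L n, ⊤),
      η ∈ CohB1.genLocus _ (Var76.Frames.ofSection _ t) ∧
      ∀ x : X, (∀ x' : X, x' ⤳ x → x' = x) → x ≠ η →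
        x ∉ CohB1.genLocus _ (Var76.Frames.ofSection _ t) := by
  classical
  haveI := isNoetherian_of_proper k X
  have hX := curveCoh_of_proper k X hdim
  let Zc : Closeds X := ⟨closure {η}, isClosed_closure⟩
  have hcompmem : ∀ C ∈ irreducibleComponents (X : Type u), η ∈ C → C = closure {η} := fun C hC hη' => by
    obtain ⟨g, hg⟩ := QuasiSober.sober hC.1 (isClosed_of_mem_irreducibleComponents C hC)
    rw [← hg.def, hη g (hg.specializes hη')]
  let S := {C ∈ irreducibleComponents (X : Type u) | η ∉ C}
  have hS : S.Finite := NoetherianSpace.finite_irreducibleComponents.subset fun C hC => hC.1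
  let Y : Closeds X := ⟨⋃₀ S, Set.Finite.isClosed_biUnion hS (fun C hC =>
    isClosed_of_mem_irreducibleComponents C hC.1) |> fun h => by rwa [Set.sUnion_eq_biUnion]⟩
  have hηY : η ∉ (Y : Set X) := fun ⟨C, hC, h⟩ => hC.2 h
  have hcov : ∀ y : X, y ∈ (Y : Set X) ∨ y ∈ (Zc : Set X) := fun y => by
    by_cases h : η ∈ irreducibleComponent y
    · exact Or.inr ((hcompmem _ (irreducibleComponent_mem_irreducibleComponents y) h).le mem_irreducibleComponent)
    · exact Or.inl ⟨_, ⟨irreducibleComponent_mem_irreducibleComponents y, h⟩, mem_irreducibleComponent⟩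
  set IY := Scheme.IdealSheafData.vanishingIdeal Y with hIY
  set IZ := Scheme.IdealSheafData.vanishingIdeal Zc with hIZ
  let c : ClSub.idealMod IY ⟶ ClSub.quotMod IZ := ClSub.idealModι IY ≫ ClSub.toSubscheme IZ
  haveI hιm : Mono (ClSub.idealModι IY) := inferInstanceAs (Mono (kernel.ι _))
  have hinj : ∀ U : X.Opens, Function.Injective (c.app U) := by
    intro U
    refine (injective_iff_map_eq_zero (c.app U).hom).2 fun a ha => ?_
    refine (Function.Injective.eq_iff' (QC70.app_injective_of_mono (ClSub.idealModι IY) U) (map_zero _)).1 ?_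
    refine eq_zero_of_basicOpen_eq_bot (show Γ(X, U) from (ClSub.idealModι IY).app U a)
      (eq_bot_iff.2 fun y hy => ?_)
    rcases hcov y with h | h
    · refine (notMem_basicOpen_of_toSubscheme Y _ ?_ h hy).elim
      exact congrArg (fun φ : ClSub.idealMod IY ⟶ ClSub.quotMod IY => φ.app U a) (kernel.condition (ClSub.toSubscheme IY))
    · exact (notMem_basicOpen_of_toSubscheme Zc _ ha h hy).elim
  haveI : Mono c := QC70.mono_of_app_injective c fun U => hinj U
  let P : Set X := (Y : Set X) ∩ (Zc : Set X)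
  have hPcl : ∀ y ∈ P, IsClosed ({y} : Set X) := fun y hy =>
    Crv77.isClosed_singleton_of_generalization hdim (specializes_iff_mem_closure.2 hy.2)
      (fun h => hηY (h ▸ hy.1))
  have hPfin : P.Finite := by
    have h1 := Crv77.finite_inter_of_forall_closed (Y.isClosed.inter Zc.isClosed) (⊤ : X.Opens)
      fun y hy => hPcl y hy.1
    simpa using h1
  have hsupp : SuppIn (cokernel c) P := suppIn_cokernel c fun x hx e => by
    obtain ⟨V, hxV, s, rfl⟩ := QC70.germM_exist e
    have hW : IsOpen (P : Set X)ᶜ := (Y.isClosed.inter Zc.isClosed).isOpen_compl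
    obtain ⟨V', hV', hxV', hV'V⟩ := exists_isAffineOpen_mem_and_subset
      (U := V ⊓ (if x ∈ (Zc : Set X) then ⟨(Y : Set X)ᶜ, Y.isClosed.isOpen_compl⟩
        else ⟨(Zc : Set X)ᶜ, Zc.isClosed.isOpen_compl⟩)) (x := x) (by
        refine ⟨hxV, ?_⟩
        split_ifs with h
        · exact fun hY => hx ⟨hY, h⟩
        · exact h)
    have hle : V' ≤ V := fun z hz => (hV'V hz).1
    rw [← QC70.germM_res hle hxV' s]
    by_cases hxZ : x ∈ (Zc : Set X)
    · have hdY : ∀ z ∈ V', z ∉ (IY.support : Set X) := fun z hz => by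
        have h1 := (hV'V hz).2
        rw [if_pos hxZ] at h1
        rw [hIY, Scheme.IdealSheafData.coe_support_vanishingIdeal]
        exact h1
      obtain ⟨a, ha⟩ := IZ.subschemeι.app_surjective V' hV' (QC70.res (ClSub.quotMod IZ) hle s)
      obtain ⟨b, hb⟩ := QC70.exists_kernel_app_eq (ClSub.toSubscheme IY) V'
        (a : Γ(Coh.structureModule X, V')) (toSubscheme_eq_zero_of_disjoint IY hdY a)
      refine ⟨QC70.germM (ClSub.idealMod IY) V' x hxV' b, ?_⟩
      rw [QC70.stalkMapM_germ]
      refine congrArg (QC70.germM _ V' x hxV') ?_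
      show (ClSub.toSubscheme IZ).app V' ((ClSub.idealModι IY).app V' b) = _
      rw [show (ClSub.idealModι IY).app V' b = (a : Γ(Coh.structureModule X, V')) from hb]
      exact ha
    · refine ⟨0, ?_⟩
      have h0 : SuppIn (ClSub.quotMod IZ) (Zc : Set X) := by
        have := suppIn_quotMod IZ
        rwa [hIZ, Scheme.IdealSheafData.coe_support_vanishingIdeal] at this
      haveI := h0 x hxZ
      exact Subsingleton.elim _ _
  let T : ShortComplex X.Modules := ShortComplex.mk c (cokernel.π c) (cokernel.condition c)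
  have hT : T.ShortExact :=
    { exact := ShortComplex.exact_of_g_is_cokernel _ (cokernelIsCokernel c)
      mono_f := inferInstanceAs (Mono c)
      epi_g := inferInstanceAs (Epi (cokernel.π c)) }
  let g : IZ.subscheme ⟶ Spec (CommRingCat.of k) := IZ.subschemeι ≫ (X ↘ Spec (CommRingCat.of k))
  letI : IZ.subscheme.Over (Spec (CommRingCat.of k)) := ⟨g⟩
  haveI : IsProper (IZ.subscheme ↘ Spec (CommRingCat.of k)) := inferInstanceAs (IsProper g)
  haveI : IsNoetherian IZ.subscheme := isNoetherian_of_proper k IZ.subscheme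
  haveI : IsIntegral IZ.subscheme := isIntegral_vanishingIdeal Zc isIrreducible_singleton.closure
  have hdimZ : topologicalKrullDim IZ.subscheme ≤ 1 :=
    (IZ.subschemeι.isClosedEmbedding.isInducing.topologicalKrullDim_le).trans hdim
  have hXZ := curveCoh_of_proper k IZ.subscheme hdimZ
  set d := Curv2.deg k IZ.subscheme ((Scheme.Modules.pullback IZ.subschemeι).obj L) 1 with hd
  have hchi : ∀ n : ℕ, Curv2.euler k X (CohB1.tensorMod (ClSub.idealMod IY) (CohB1.tensorPow L n)) =
      Curv2.euler k X (ClSub.idealMod IY) + n * d := by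
    intro n
    have hn := EGA73.isInvertible_tensorPow hL n
    have h1 := hX.euler_twist_sub hT (isCoh_idealMod IY) (isCoh_quotMod IZ) hsupp hPfin hPcl hn
      (isCoh_of_isInvertible hn)
    have h2 := deg_pullback_eq k IZ.subschemeι rfl hn
    have h3 : Curv2.deg k IZ.subscheme ((Scheme.Modules.pullback IZ.subschemeι).obj (CohB1.tensorPow L n)) 1 =
        n * d := by
      rw [hd, ← hXZ.deg_tensorPow hdimZ (Amp73.isInvertible_pullback IZ.subschemeι hL) n]
      simp only [Curv2.deg]
      rw [euler_congr (Amp73.pullPowIso IZ.subschemeι hL n)]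
    simp only [T] at h1
    change Curv2.euler k X (CohB1.tensorMod ((Scheme.Modules.pushforward IZ.subschemeι).obj
      (Coh.structureModule IZ.subscheme)) (CohB1.tensorPow L n)) - _ = _ at h1
    linarith
  have hnz : ∃ N : ℕ, ∀ n, N ≤ n →
      0 < Module.finrank k (Coh.HH X (CohB1.tensorMod (ClSub.idealMod IY) (CohB1.tensorPow L n)) 0) := by
    have hfinal : ∀ n : ℕ, 0 < Curv2.euler k X (ClSub.idealMod IY) + n * d →
        0 < Module.finrank k (Coh.HH X (CohB1.tensorMod (ClSub.idealMod IY) (CohB1.tensorPow L n)) 0) := by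
      intro n hn
      rw [← hchi, hX.euler_eq (isCoh_tensorMod (isCoh_idealMod IY)
        (isCoh_of_isInvertible (EGA73.isInvertible_tensorPow hL n)))] at hn
      simp only [Crv77.h] at hn
      omega
    by_cases h1 : topologicalKrullDim IZ.subscheme = 1
    · have hdpos : 0 < d := hpos IZ.subscheme IZ.subschemeι h1
      refine ⟨(1 - Curv2.euler k X (ClSub.idealMod IY)).toNat, fun n hn => hfinal n ?_⟩
      have h2 : 1 - Curv2.euler k X (ClSub.idealMod IY) ≤ n :=
        (Int.self_le_toNat _).trans (by exact_mod_cast hn)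
      nlinarith
    · have h0 : topologicalKrullDim IZ.subscheme ≤ 0 := by
        rcases eq_or_lt_of_le hdimZ with h | h
        · exact absurd h h1
        · exact Props58.le_zero_of_lt_one h
      have hsingle : (Zc : Set X) = {η} := by
        refine Set.eq_singleton_iff_unique_mem.2 ⟨subset_closure rfl, fun y hy => ?_⟩
        obtain ⟨a, ha⟩ := (range_vanishingIdeal Zc).ge hy
        obtain ⟨b, hb⟩ := (range_vanishingIdeal Zc).ge (subset_closure (rfl : η ∈ ({η} : Set X)))
        have hspec : b ⤳ a := IZ.subschemeι.isClosedEmbedding.isInducing.specializes_iff.1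
          (by rw [hb, ha]; exact specializes_iff_mem_closure.2 hy)
        rw [← ha, ← hb, Props58.eq_of_specializes h0 hspec]
      have hPe : P = ∅ := Set.eq_empty_iff_forall_notMem.2 fun y hy => hηY (by
        have := hsingle.le hy.2
        rw [Set.mem_singleton_iff] at this
        exact this ▸ hy.1)
      have hsq : SuppIn (ClSub.quotMod IZ) {η} := by
        have := suppIn_quotMod IZ
        rwa [hIZ, Scheme.IdealSheafData.coe_support_vanishingIdeal, hsingle] at this
      have hηcl : ∀ y ∈ ({η} : Set X), IsClosed ({y} : Set X) := fun y hy => by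
        rw [Set.mem_singleton_iff.1 hy, ← hsingle]; exact Zc.isClosed
      refine ⟨0, fun n _ => ?_⟩
      have hn := EGA73.isInvertible_tensorPow hL n
      have h1' := hX.euler_twist_sub hT (isCoh_idealMod IY) (isCoh_quotMod IZ) hsupp hPfin hPcl hn
        (isCoh_of_isInvertible hn)
      have h2' := hX.euler_twist_of_suppIn hsq (Set.finite_singleton η) hηcl hn
      have h3' := hX.euler_add hT (isCoh_idealMod IY) (isCoh_quotMod IZ)
      have hc0 : Curv2.euler k X (cokernel c) = 0 := by
        rw [hX.euler_eq_of_suppIn (isCoh_cokernel c (isCoh_idealMod IY) (isCoh_quotMod IZ))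
          (hPe ▸ hsupp) Set.finite_empty (fun y hy => hy.elim)]
        have hsupp0 : SuppIn (cokernel c) (∅ : Set X) := hPe ▸ hsupp
        have : Subsingleton (Coh.HH X (cokernel c) 0) := ⟨fun a b => (sec (cokernel c)).injective
          ((hsupp0.section_eq_zero (V := ⊤) (fun _ _ h => h.elim) _).trans
            (hsupp0.section_eq_zero (V := ⊤) (fun _ _ h => h.elim) _).symm)⟩
        simp [Crv77.h, Module.finrank_zero_of_subsingleton]
      have h4 : 0 < Module.finrank k (Coh.HH X (ClSub.quotMod IZ) 0) := by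
        haveI := hX.finite _ (isCoh_quotMod IZ) 0
        by_contra hz
        rw [not_lt, Nat.le_zero, Module.finrank_zero_iff] at hz
        have h5 : Subsingleton Γ(ClSub.quotMod IZ, ⊤) := (sec (ClSub.quotMod IZ)).symm.injective.subsingleton
        change Subsingleton Γ(IZ.subscheme, ⊤) at h5
        exact false_of_nontrivial_of_subsingleton Γ(IZ.subscheme, ⊤)
      have h6 := hX.euler_eq_of_suppIn (isCoh_quotMod IZ) hsq (Set.finite_singleton η) hηcl
      have hF := isCoh_tensorMod (isCoh_idealMod IY) (isCoh_of_isInvertible hn)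
      simp only [T, Crv77.h] at h1' h3' h6
      have h7 := hX.euler_eq hF
      simp only [Crv77.h] at h7
      omega
  obtain ⟨N, hN⟩ := hnz
  refine ⟨N, fun n hn => ?_⟩
  have hLn := EGA73.isInvertible_tensorPow hL n
  obtain ⟨j, hj, hex⟩ := exists_point_seq (k := k) IY hLn
  have := Module.nontrivial_of_finrank_pos (hN n hn)
  obtain ⟨v, hv⟩ := exists_ne (0 : Coh.HH X (CohB1.tensorMod (ClSub.idealMod IY) (CohB1.tensorPow L n)) 0)
  let t := sec (CohB1.tensorPow L n) (hmap k j 0 v)
  have ht0 : t ≠ 0 := fun h => hv (hj (((sec _).injective (h.trans (map_zero _).symm)).trans (map_zero _).symm))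
  have hval : (valueAt IY (CohB1.tensorPow L n)).app ⊤ t = 0 := by
    rw [← sec_hmap k, (hex _).2 ⟨v, rfl⟩, map_zero]
  have hout : ∀ x : X, (∀ x' : X, x' ⤳ x → x' = x) → x ≠ η →
      x ∉ CohB1.genLocus _ (Var76.Frames.ofSection _ t) := fun x hx hne => by
    refine notMem_genLocus_of_valueAt hLn Y t hval ?_
    refine (hcov x).resolve_right fun h => hne ((hx η (specializes_iff_mem_closure.2 h)).symm)
  refine ⟨t, ?_, hout⟩
  by_contra hηg
  refine ht0 (eq_zero_of_forall_notMem hLn t (fun x hx => ?_) exists_maximal)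
  by_cases h : x = η
  · exact h ▸ hηg
  · exact hout x hx h

end Groth.Agent.Curves2.Ample
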