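import Groth.Agent.Curves2.Ample.Semiample
import Groth.Agent.VarCurve.AmpleDeg
import Groth.Agent.Approx60.AmpleThickening
import Groth.Agent.Amp73.QA
import Groth.Agent.Props58.PullTensor
import Groth.Agent.ParaF26.Open

/-!
# Ampleness criterion on proper schemes of dimension at most one
-/

set_option autoImplicit false
set_option linter.style.haveILetI false

universe u

open CategoryTheory CategoryTheory.Limits AlgebraicGeometry TopologicalSpace

noncomputable section

namespace Groth.Agent.Curves2.Ample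

open Groth.Agent.Crv77

variable (k : Type u) [Field k]

/-- The hypothesis: positive degree on every integral closed curve. -/
def PosOnCurves (X : Scheme.{u}) [X.Over (Spec (CommRingCat.of k))] (L : X.Modules) : Prop :=
  ∀ (Z : Scheme.{u}) (j : Z ⟶ X) [IsClosedImmersion j] [IsIntegral Z], topologicalKrullDim Z = 1 →
    0 < @Curv2.deg k _ Z ⟨j ≫ (X ↘ Spec (CommRingCat.of k))⟩ ((Scheme.Modules.pullback j).obj L) 1

/-- The pullback of a frame-generated power to a scheme mapping into the locus is trivial. -/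
theorem isAffineOpen_of_mem_genSet {X : Scheme.{u}} [X.Over (Spec (CommRingCat.of k))]
    [IsProper (X ↘ Spec (CommRingCat.of k))] (hdim : topologicalKrullDim X ≤ 1) {L : X.Modules}
    (hL : PicF.IsInvertible L) (hpos : PosOnCurves k X L) {G : X.Opens} (hG : G ∈ Amp73.GenSet L) :
    IsAffineOpen G := by
  obtain ⟨n, s, rfl⟩ := hG
  set G := CohB1.genLocus (CohB1.tensorPow L (n + 1)) s
  haveI := isNoetherian_of_proper k X
  let f := X ↘ Spec (CommRingCat.of k)
  letI : (G : Scheme.{u}).Over (Spec (CommRingCat.of k)) := ⟨G.ι ≫ f⟩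
  haveI : IsSeparated ((G : Scheme.{u}) ↘ Spec (CommRingCat.of k)) :=
    inferInstanceAs (IsSeparated (G.ι ≫ f))
  haveI : LocallyOfFiniteType ((G : Scheme.{u}) ↘ Spec (CommRingCat.of k)) :=
    inferInstanceAs (LocallyOfFiniteType (G.ι ≫ f))
  haveI : IsLocallyNoetherian (G : Scheme.{u}) := LocallyOfFiniteType.isLocallyNoetherian G.ι
  haveI : QuasiCompact G.ι := inferInstance
  haveI : CompactSpace (G : Scheme.{u}) := by
    have h : IsCompact (G : Set X) := NoetherianSpace.isCompact _
    exact isCompact_iff_compactSpace.1 h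
  haveI : IsNoetherian (G : Scheme.{u}) := {}
  have hdimG : topologicalKrullDim (G : Scheme.{u}) ≤ 1 :=
    (G.ι.isOpenEmbedding.isInducing.topologicalKrullDim_le).trans hdim
  refine isAffine_of_components k (G : Scheme.{u}) hdimG fun Z hZ hZ1 hp => ?_
  set I := Scheme.IdealSheafData.vanishingIdeal Z
  haveI : IsIntegral I.subscheme := isIntegral_vanishingIdeal Z hZ.1
  let j : I.subscheme ⟶ X := I.subschemeι ≫ G.ι
  haveI : IsProper (j ≫ f) := by
    show IsProper ((I.subschemeι ≫ G.ι) ≫ f)
    rw [Category.assoc]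
    exact hp
  haveI : IsProper j := IsProper.of_comp j f
  haveI : IsClosedImmersion j :=
    IsClosedImmersion.of_isPreimmersion j j.isClosedMap.isClosed_range
  letI : I.subscheme.Over (Spec (CommRingCat.of k)) := ⟨j ≫ f⟩
  haveI : IsProper (I.subscheme ↘ Spec (CommRingCat.of k)) := inferInstanceAs (IsProper (j ≫ f))
  haveI := isNoetherian_of_proper k I.subscheme
  have hd1 : topologicalKrullDim I.subscheme = 1 := (dim_vanishingIdeal Z).trans hZ1
  have hC := curveCoh_of_proper k I.subscheme hd1.le
  have hlt : 0 < Curv2.deg k I.subscheme ((Scheme.Modules.pullback j).obj L) 1 := hpos I.subscheme j hd1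
  -- the restricted power is trivial
  have hLn := EGA73.isInvertible_tensorPow hL (n + 1)
  let s' := Amp73.pullHom j s
  have htop : CohB1.genLocus _ s' = ⊤ := by
    rw [Amp73.genLocus_pullHom j hLn s]
    exact eq_top_iff.2 fun z _ => (I.subschemeι z).2
  have hiso : Nonempty ((Scheme.Modules.pullback j).obj (CohB1.tensorPow L (n + 1)) ≅
      Coh.structureModule I.subscheme) :=
    ParaF26.nonempty_iso_unit ((Amp73.isFrame_iff_le_genLocus s' ⊤).2 htop.ge)
  obtain ⟨e⟩ := hiso
  have h1 := hC.deg_tensorPow hd1.le (Amp73.isInvertible_pullback j hL) (n + 1)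
  have h2 : Curv2.deg k I.subscheme (CohB1.tensorPow ((Scheme.Modules.pullback j).obj L) (n + 1)) 1 = 0 := by
    simp only [Curv2.deg, Nat.cast_one, one_mul]
    rw [← euler_congr (Amp73.pullPowIso j hL (n + 1)), euler_congr e, sub_self]
  rw [h2] at h1
  rcases mul_eq_zero.1 h1.symm with h | h
  · exact absurd h (by positivity)
  · omega

/-- Positive degree on every curve implies ample (reduced case). -/
theorem isAmple_of_posOnCurves_reduced {X : Scheme.{u}} [X.Over (Spec (CommRingCat.of k))]
    [IsProper (X ↘ Spec (CommRingCat.of k))] [IsReduced X] (hdim : topologicalKrullDim X ≤ 1)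
    {L : X.Modules} (hL : PicF.IsInvertible L) (hpos : PosOnCurves k X L) : CohB1.IsAmple L := by
  haveI := isNoetherian_of_proper k X
  refine Amp73.isAmple_iff.2 ⟨hL, inferInstance, fun x => ?_⟩
  obtain ⟨G, hG, hx⟩ := exists_genSet_mem k hdim hL hpos x
  exact ⟨G, hG, hx, isAffineOpen_of_mem_genSet k hdim hL hpos hG⟩

/-- Positive degree on every curve implies ample. -/
theorem isAmple_of_posOnCurves {X : Scheme.{u}} [X.Over (Spec (CommRingCat.of k))]
    [IsProper (X ↘ Spec (CommRingCat.of k))] (hdim : topologicalKrullDim X ≤ 1)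
    {L : X.Modules} (hL : PicF.IsInvertible L) (hpos : PosOnCurves k X L) : CohB1.IsAmple L := by
  let I := Scheme.IdealSheafData.vanishingIdeal (⊤ : Closeds X)
  let i := I.subschemeι
  haveI : IsReduced I.subscheme := SchBasics.isReduced_vanishingIdeal_subscheme _
  have hsurj : Function.Surjective i := fun x => (range_vanishingIdeal (⊤ : Closeds X)).ge trivial
  have hhom : IsHomeomorph i.base :=
    (isHomeomorph_iff_isEmbedding_surjective).2 ⟨i.isClosedEmbedding.isEmbedding, hsurj⟩
  refine (Approx60.S2153 i hhom L hL).1 ?_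
  letI : I.subscheme.Over (Spec (CommRingCat.of k)) := ⟨i ≫ (X ↘ Spec (CommRingCat.of k))⟩
  haveI : IsProper (I.subscheme ↘ Spec (CommRingCat.of k)) :=
    inferInstanceAs (IsProper (i ≫ (X ↘ Spec (CommRingCat.of k))))
  refine isAmple_of_posOnCurves_reduced k ((i.isClosedEmbedding.isInducing.topologicalKrullDim_le).trans hdim)
    (Amp73.isInvertible_pullback i hL) fun Z j _ _ hZ => ?_
  have h := hpos Z (j ≫ i) hZ
  letI : Z.Over (Spec (CommRingCat.of k)) := ⟨j ≫ i ≫ (X ↘ Spec (CommRingCat.of k))⟩
  show 0 < Curv2.deg k Z _ 1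
  have h' : 0 < Curv2.deg k Z ((Scheme.Modules.pullback (j ≫ i)).obj L) 1 := by
    have e : (j ≫ i) ≫ (X ↘ Spec (CommRingCat.of k)) = j ≫ i ≫ (X ↘ Spec (CommRingCat.of k)) :=
      Category.assoc _ _ _
    rw [e] at h
    exact h
  simp only [Curv2.deg] at h' ⊢
  have e : Curv2.euler k Z ((Scheme.Modules.pullback j).obj ((Scheme.Modules.pullback i).obj L)) =
      Curv2.euler k Z ((Scheme.Modules.pullback (j ≫ i)).obj L) :=
    euler_congr (k := k) ((Scheme.Modules.pullbackComp j i).app L)
  rwa [e]

/-- Degrees on the curve components determine degrees on all integral curves. -/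
theorem posOnCurves_of_components {X : Scheme.{u}} [X.Over (Spec (CommRingCat.of k))]
    [IsProper (X ↘ Spec (CommRingCat.of k))] [IsNoetherian X] (hdim : topologicalKrullDim X ≤ 1)
    {L : X.Modules} (hL : PicF.IsInvertible L)
    (h : ∀ (C : Set X) (hC : C ∈ irreducibleComponents (X : Type u)),
      topologicalKrullDim C = 1 → 0 < @Curv2.deg k _ (X.irreducibleComponentIdeal C hC).radical.subscheme
        ⟨(X.irreducibleComponentIdeal C hC).radical.subschemeι ≫ (X ↘ (Spec (CommRingCat.of k)))⟩
        ((Scheme.Modules.pullback (X.irreducibleComponentIdeal C hC).radical.subschemeι).obj L) 1) :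
    PosOnCurves k X L := by
  intro Z j _ _ hZ
  let f := X ↘ Spec (CommRingCat.of k)
  have hCirr : IsIrreducible (Set.range j) := by
    rw [← Set.image_univ]
    exact (IrreducibleSpace.isIrreducible_univ Z).image j j.continuous.continuousOn
  have hC1 : topologicalKrullDim (Set.range j) = 1 :=
    (j.isClosedEmbedding.isEmbedding.toHomeomorph.isHomeomorph.topologicalKrullDim_eq).symm.trans hZ
  have hmem : Set.range j ∈ irreducibleComponents (X : Type u) := by
    refine ⟨hCirr, fun C' hC' hle => ?_⟩
    obtain ⟨g, hg⟩ := QuasiSober.sober hC'.closure isClosed_closure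
    obtain ⟨η, hη⟩ := QuasiSober.sober hCirr j.isClosedEmbedding.isClosed_range
    have hgη : g ⤳ η := hg.specializes (subset_closure (hle hη.mem))
    by_contra hne
    have hne' : η ≠ g := fun e => hne (by
      refine subset_closure.trans ?_
      rw [← hg.def, ← e, hη.def])
    obtain ⟨z, hz, hzc⟩ : ∃ z ∈ Set.range j, z ≠ η := by
      by_contra hall
      push Not at hall
      haveI : Subsingleton Z := ⟨fun a b => j.isClosedEmbedding.injective
        ((hall _ ⟨a, rfl⟩).trans (hall _ ⟨b, rfl⟩).symm)⟩
      have h0 : topologicalKrullDim Z ≤ 0 := Order.krullDim_nonpos_iff_forall_isMax.2 fun a b _ => by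
        intro y _
        obtain ⟨w, hw⟩ := a.isIrreducible.nonempty
        exact Subsingleton.elim w y ▸ hw
      rw [hZ] at h0
      norm_num at h0
    exact length_two_false hdim (hη.specializes hz) hzc hgη hne'
  set J := (X.irreducibleComponentIdeal (Set.range j) hmem).radical
  haveI : IsReduced J.subscheme :=
    SchBasics.isReduced_subscheme_of_radical _ fun U => Ideal.radical_isRadical _
  have hrJ : Set.range J.subschemeι = Set.range j := by
    rw [Scheme.IdealSheafData.range_subschemeι, Scheme.IdealSheafData.support_radical]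
    rfl
  let φ := IsClosedImmersion.lift J.subschemeι j (SchBasics.ker_le_ker_of_range_subset j _ hrJ.ge)
  have hφ : φ ≫ J.subschemeι = j := IsClosedImmersion.lift_fac _ _ _
  haveI : IsClosedImmersion (φ ≫ J.subschemeι) := hφ ▸ inferInstance
  haveI : IsClosedImmersion φ := IsClosedImmersion.of_comp φ J.subschemeι
  haveI : Surjective φ := ⟨fun y => by
    obtain ⟨z, hz⟩ := hrJ.le ⟨y, rfl⟩
    refine ⟨z, J.subschemeι.isClosedEmbedding.injective ?_⟩
    rw [← Scheme.Hom.comp_apply, hφ, hz]⟩
  haveI : IsIso φ := isIso_of_isClosedImmersion_of_surjective φ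
  letI : J.subscheme.Over (Spec (CommRingCat.of k)) := ⟨J.subschemeι ≫ f⟩
  letI : Z.Over (Spec (CommRingCat.of k)) := ⟨j ≫ f⟩
  haveI : IsProper (J.subscheme ↘ Spec (CommRingCat.of k)) := inferInstanceAs (IsProper (J.subschemeι ≫ f))
  haveI : IsProper (Z ↘ Spec (CommRingCat.of k)) := inferInstanceAs (IsProper (j ≫ f))
  haveI := isNoetherian_of_proper k J.subscheme
  haveI := isNoetherian_of_proper k Z
  have hpos : 0 < Curv2.deg k J.subscheme ((Scheme.Modules.pullback J.subschemeι).obj L) 1 :=
    h _ hmem hC1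
  show 0 < Curv2.deg k Z ((Scheme.Modules.pullback j).obj L) 1
  obtain ⟨e⟩ := nonempty_push_iso φ J.subschemeι j hφ
  rw [deg_pullback_eq k j rfl hL, euler_congr e, euler_congr (EGA73.tensIso e (Iso.refl L))]
  rwa [deg_pullback_eq k J.subschemeι rfl hL] at hpos

/-- Degrees of an ample module on curve components are positive. -/
theorem deg_pos_component {X : Scheme.{u}} [X.Over (Spec (CommRingCat.of k))]
    [IsProper (X ↘ Spec (CommRingCat.of k))] [IsNoetherian X] {L : X.Modules} (hL : CohB1.IsAmple L)
    (C : Set X) (hC : C ∈ irreducibleComponents (X : Type u)) (hC1 : topologicalKrullDim C = 1) :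
    0 < @Curv2.deg k _ (X.irreducibleComponentIdeal C hC).radical.subscheme
        ⟨(X.irreducibleComponentIdeal C hC).radical.subschemeι ≫ (X ↘ (Spec (CommRingCat.of k)))⟩
        ((Scheme.Modules.pullback (X.irreducibleComponentIdeal C hC).radical.subschemeι).obj L) 1 := by
  set J := (X.irreducibleComponentIdeal C hC).radical
  haveI : IsReduced J.subscheme :=
    SchBasics.isReduced_subscheme_of_radical _ fun U => Ideal.radical_isRadical _
  have hrJ : Set.range J.subschemeι = C := by
    rw [Scheme.IdealSheafData.range_subschemeι, Scheme.IdealSheafData.support_radical]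
    rfl
  have hd : topologicalKrullDim J.subscheme = 1 := by
    rw [J.subschemeι.isClosedEmbedding.isEmbedding.toHomeomorph.isHomeomorph.topologicalKrullDim_eq,
      ← hC1]
    exact congrArg (fun s : Set X => topologicalKrullDim s) hrJ
  haveI : IrreducibleSpace J.subscheme := by
    have h1 : IsIrreducible (Set.univ : Set J.subscheme) := by
      refine ⟨?_, fun u v hu hv hu' hv' => ?_⟩
      · obtain ⟨x, hx⟩ := hC.1.1
        obtain ⟨y, -⟩ := hrJ.ge hx
        exact ⟨y, trivial⟩
      · obtain ⟨u', hu'o, rfl⟩ := J.subschemeι.isClosedEmbedding.isInducing.isOpen_iff.1 hu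
        obtain ⟨v', hv'o, rfl⟩ := J.subschemeι.isClosedEmbedding.isInducing.isOpen_iff.1 hv
        obtain ⟨a, -, ha⟩ := hu'
        obtain ⟨b, -, hb⟩ := hv'
        obtain ⟨x, hx, hxu, hxv⟩ := hC.1.2 u' v' hu'o hv'o ⟨_, hrJ.le ⟨a, rfl⟩, ha⟩ ⟨_, hrJ.le ⟨b, rfl⟩, hb⟩
        obtain ⟨w, rfl⟩ := hrJ.ge hx
        exact ⟨w, trivial, hxu, hxv⟩
    exact (irreducibleSpace_def _).2 h1
  haveI : IsIntegral J.subscheme := isIntegral_of_irreducibleSpace_of_isReduced _
  letI : J.subscheme.Over (Spec (CommRingCat.of k)) := ⟨J.subschemeι ≫ (X ↘ Spec (CommRingCat.of k))⟩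
  haveI : IsProper (J.subscheme ↘ Spec (CommRingCat.of k)) :=
    inferInstanceAs (IsProper (J.subschemeι ≫ (X ↘ Spec (CommRingCat.of k))))
  exact VarCurve.deg_pos_of_isAmple k hd
    (Amp73.isAmple_pullback J.subschemeι (Amp73.isQuasiAffine_of_isAffineHom J.subschemeι) hL)

end Groth.Agent.Curves2.Ample
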