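import Groth.Agent.Curves2.Ample.Component
import Groth.Agent.Amp73.Ample
import Groth.Agent.Amp73.Powers
import Groth.Agent.Amp73.PullTensor

/-!
# Positive degree on all components implies semiample

Multiplication by a section `s` nonzero on every component makes `h¹(L^{nj})` decrease; where it
stabilises, sections restrict surjectively to the finite zero scheme of `s`.
-/

set_option autoImplicit false
set_option linter.style.haveILetI false

universe u

open CategoryTheory CategoryTheory.Limits AlgebraicGeometry TopologicalSpace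

noncomputable section

namespace Groth.Agent.Curves2.Ample

open Groth.Agent.Crv77 Groth.Agent.Var76.LineBundle Groth.Agent.Var76.ZeroScheme
open Groth.Agent.Amp73 (tm)

variable {X : Scheme.{u}}

theorem app_twistMap_valueAt_eq_zero {L M : X.Modules} (hL : PicF.IsInvertible L) (hM : PicF.IsInvertible M)
    (s : Coh.structureModule X ⟶ L) {x : X} (hx : IsClosed ({x} : Set X))
    (hxs : x ∉ CohB1.genLocus L s) :
    unitTm M ≫ twistMap s M ≫ valueAt (ptIdeal hx) (CohB1.tensorMod L M) = 0 := by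
  refine Scheme.Modules.hom_ext _ _ fun U => ?_
  ext y
  refine eq_of_locally _ _ _ fun p hp => ?_
  obtain ⟨U₁, hpU₁, hU₁, e, he⟩ := Mero90.exists_affine_frame hL p U hp
  obtain ⟨U₂, hpU₂, hU₂, f, hf⟩ := Mero90.exists_affine_frame hM p U₁.1 hpU₁
  refine ⟨U₂.1, hU₂.trans hU₁, hpU₂, ?_⟩
  obtain ⟨c, hc⟩ := Amp73.exists_coord s (he.res hU₂)
  obtain ⟨a, ha⟩ := (hf U₂.1 le_rfl).2 (res M (hU₂.trans hU₁) y)
  dsimp only at ha
  rw [Amp73.res_self] at ha
  show res _ _ ((unitTm M ≫ twistMap s M ≫ valueAt (ptIdeal hx) (CohB1.tensorMod L M)).app U y) = res _ _ 0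
  rw [← Mero90.app_res, ← ha]
  refine Eq.trans ?_ (map_zero _).symm
  show (valueAt (ptIdeal hx) (CohB1.tensorMod L M)).app U₂.1
    ((twistMap s M).app U₂.1 ((unitTm M).app U₂.1 (a • f))) = 0
  have h1 : (twistMap s M).app U₂.1 ((unitTm M).app U₂.1 (a • f)) =
      (c * a) • tm L M (res L hU₂ e) f := by
    rw [unitTm_app, twist_map_tm]
    show tm L M (val L s U₂.1) (a • f) = _
    rw [← hc, Amp73.tm_smul_left, Amp73.tm_smul_right, smul_smul]
  rw [h1, valueAt_frame]
  have h2 : (ClSub.toSubscheme (ptIdeal hx)).app U₂.1 ((c * a : Γ(X, U₂.1)) : Γ(Coh.structureModule X, U₂.1)) = 0 := by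
    by_cases hxU : x ∈ U₂.1
    · refine (toSubscheme_eq_zero_iff (ptIdeal hx) U₂.2 (c * a)).2
        ((mem_vanishingIdeal_singleton_iff hx U₂.2 hxU (c * a)).2 fun h => hxs ?_)
      rw [X.basicOpen_mul] at h
      exact ((Amp73.genLocus_inf_eq_basicOpen s (he.res hU₂) hc).ge h.1).1
    · exact toSubscheme_eq_zero_of_disjoint (ptIdeal hx) (fun y hy h => hxU (by
        rw [ptIdeal_support hx, Set.mem_singleton_iff] at h
        exact h ▸ hy)) (c * a)
  rw [h2]
  exact Amp73.tm_zero_left _

/-- `L^{⊗ j}` with the new factor on the left. -/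
def iterTens (L : X.Modules) : ℕ → X.Modules
  | 0 => Coh.structureModule X
  | j + 1 => CohB1.tensorMod L (iterTens L j)

theorem suppIn_of_mono {M N : X.Modules} (φ : M ⟶ N) [Mono φ] {S : Set X} (h : SuppIn N S) :
    SuppIn M S := fun x hx => by
  haveI := h x hx
  exact (QC70.injective_stalkMapM_of_mono φ x).subsingleton

theorem suppIn_of_iso {M N : X.Modules} (e : M ≅ N) {S : Set X} (h : SuppIn M S) : SuppIn N S :=
  suppIn_of_mono e.inv h

/-- On a reduced scheme a section generating at all maximal points is injective. -/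
theorem mono_of_dense [IsReduced X] {L : X.Modules} (hL : PicF.IsInvertible L)
    (s : Coh.structureModule X ⟶ L)
    (hs : ∀ η : X, (∀ x' : X, x' ⤳ η → x' = η) → η ∈ CohB1.genLocus L s) : Mono s := by
  refine QC70.mono_of_app_injective s fun U => (injective_iff_map_eq_zero (s.app U).hom).2 fun a ha => ?_
  refine eq_zero_of_basicOpen_eq_bot (show Γ(X, U) from a) (eq_bot_iff.2 fun z hz => ?_)
  obtain ⟨η, hη, hηz⟩ := exists_maximal z
  have hηa : η ∈ X.basicOpen (show Γ(X, U) from a) := hηz.mem_open (X.basicOpen _).2 hz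
  obtain ⟨V, hηV, hV⟩ := Amp73.mem_genLocus_iff.1 (hs η hη)
  have hηU : η ∈ U := X.basicOpen_le _ hηa
  have h1 : res L (inf_le_left : U ⊓ V ≤ U) (s.app U a) = 0 :=
    (congrArg (res L (inf_le_left : U ⊓ V ≤ U)) ha).trans (map_zero _)
  rw [← Mero90.app_res, Amp73.app_eq_smul_val] at h1
  have h2 := (hV (U ⊓ V) inf_le_right).1 (a₁ := res (Coh.structureModule X) inf_le_left a) (a₂ := 0) (by
    dsimp only
    rw [res_val, h1, zero_smul])
  have h3 : η ∉ X.basicOpen (X.presheaf.map (homOfLE (inf_le_left : U ⊓ V ≤ U)).op (show Γ(X, U) from a)) := by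
    rw [show X.presheaf.map (homOfLE (inf_le_left : U ⊓ V ≤ U)).op (show Γ(X, U) from a) = 0 from h2,
      Scheme.basicOpen_zero]
    exact id
  rw [Scheme.basicOpen_res] at h3
  exact (h3 ⟨⟨hηU, hηV⟩, hηa⟩).elim

variable (k : Type u) [Field k] [X.Over (Spec (CommRingCat.of k))]
  [IsProper (X ↘ Spec (CommRingCat.of k))]

/-- If `h¹` does not drop under multiplication by `s`, sections generate at the zeros of `s`. -/
theorem exists_gen_of_h1_eq (hdim : topologicalKrullDim X ≤ 1) {L M : X.Modules}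
    (hL : PicF.IsInvertible L) (hM : PicF.IsInvertible M) (s : Coh.structureModule X ⟶ L) [Mono s]
    {S : Set X} (hS : S.Finite) (hcl : ∀ y ∈ S, IsClosed ({y} : Set X))
    (hsupp : SuppIn (cokernel s) S)
    (h1 : Module.finrank k (Coh.HH X M 1) ≤ Module.finrank k (Coh.HH X (CohB1.tensorMod L M) 1))
    {x : X} (hx : IsClosed ({x} : Set X)) (hxs : x ∉ CohB1.genLocus L s) :
    ∃ t : Γ(CohB1.tensorMod L M, ⊤),
      x ∈ CohB1.genLocus _ (Var76.Frames.ofSection _ t) := by
  haveI := isNoetherian_of_proper k X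
  have hX := curveCoh_of_proper k X hdim
  have hMc := isCoh_of_isInvertible hM
  have hM' := EGA73.isInvertible_tensorMod hL hM
  let T : ShortComplex X.Modules := ShortComplex.mk s (cokernel.π s) (cokernel.condition s)
  have hT : T.ShortExact :=
    { exact := ShortComplex.exact_of_g_is_cokernel _ (cokernelIsCokernel s)
      mono_f := inferInstanceAs (Mono s)
      epi_g := inferInstanceAs (Epi (cokernel.π s)) }
  obtain ⟨hw, hS'⟩ := exists_tR_shortExact (O := X.sheaf) M
    (locally_flat_of_rank_one (Mero90.isFinLocFreeOfRank_of_isInvertible hM)) hT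
  haveI := isIso_unitTm hM
  -- the twisted sequence `M → L ⊗ M → Q ⊗ M`
  have hT' : (ShortComplex.mk (unitTm M ≫ twistMap s M) (twistMap (cokernel.π s) M)
      (by rw [Category.assoc]; exact (congrArg (unitTm M ≫ ·) hw).trans comp_zero)).ShortExact :=
    ShortComplex.shortExact_of_iso (ShortComplex.isoMk
      (S₁ := ShortComplex.mk (twistMap s M) (twistMap (cokernel.π s) M) hw)
      (S₂ := ShortComplex.mk (unitTm M ≫ twistMap s M) (twistMap (cokernel.π s) M) _)
      (asIso (unitTm M)).symm (Iso.refl _) (Iso.refl _) (by simp) (by simp)) hS'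
  obtain ⟨eQ⟩ := hsupp.nonempty_iso_tensorMod (L := M) hS hcl hM
  haveI hQ1 : Subsingleton (Coh.HH X (CohB1.tensorMod (cokernel s) M) 1) := by
    haveI := hsupp.subsingleton_HH hS hcl 0
    exact (hEquiv k eQ.symm 1).injective.subsingleton
  haveI := hX.finite M hMc 1
  haveI := hX.finite _ (isCoh_of_isInvertible hM') 1
  -- the connecting map vanishes
  have hsurj1 : Function.Surjective (hmap k (unitTm M ≫ twistMap s M) 1) := fun b =>
    ((exact_f_g k hT' 1) b).1 (Subsingleton.elim _ _)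
  have hinj1 : Function.Injective (hmap k (unitTm M ≫ twistMap s M) 1) := by
    refine LinearMap.injective_iff_surjective_of_finrank_eq_finrank ?_ |>.2 hsurj1
    refine le_antisymm h1 ?_
    exact LinearMap.finrank_le_finrank_of_surjective hsurj1
  have hsurj0 : Function.Surjective (hmap k (twistMap (cokernel.π s) M) 0) := fun q => by
    refine ((exact_g_δ k hT' 0) q).1 (hinj1 ?_)
    rw [map_zero]
    exact ((exact_δ_f k hT' 0) _).2 ⟨q, rfl⟩
  -- evaluation at `x` factors through the cokernel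
  have hzero := app_twistMap_valueAt_eq_zero hL hM s hx hxs
  obtain ⟨ev, hev⟩ : ∃ ev : CohB1.tensorMod (cokernel s) M ⟶
      CohB1.tensorMod (ClSub.quotMod (ptIdeal hx)) (CohB1.tensorMod L M),
      twistMap (cokernel.π s) M ≫ ev = valueAt (ptIdeal hx) (CohB1.tensorMod L M) := by
    haveI := hT'.epi_g
    exact ⟨hT'.exact.desc (valueAt (ptIdeal hx) (CohB1.tensorMod L M)) (by
      exact (Category.assoc _ _ _).trans hzero), hT'.exact.g_desc _ _⟩
  haveI hepi : Epi ev := by
    haveI : Epi (valueAt (ptIdeal hx) (CohB1.tensorMod L M)) := by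
      haveI := isIso_unitTm hM'
      haveI := epi_toSubscheme (ptIdeal hx)
      haveI : Epi (twistMap (ClSub.toSubscheme (ptIdeal hx)) (CohB1.tensorMod L M)) :=
        (exists_tR_shortExact (O := X.sheaf) (CohB1.tensorMod L M)
          (locally_flat_of_rank_one (Mero90.isFinLocFreeOfRank_of_isInvertible hM'))
          (idealSeq_shortExact (ptIdeal hx))).choose_spec.epi_g
      exact inferInstanceAs (Epi (unitTm _ ≫ twistMap (ClSub.toSubscheme (ptIdeal hx)) _))
    exact epi_of_epi_fac hev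
  let K : ShortComplex X.Modules := ShortComplex.mk (kernel.ι ev) ev (kernel.condition ev)
  have hK : K.ShortExact :=
    { exact := ShortComplex.exact_of_f_is_kernel _ (kernelIsKernel ev)
      mono_f := inferInstanceAs (Mono (kernel.ι ev))
      epi_g := hepi }
  have hsuppQ : SuppIn (CohB1.tensorMod (cokernel s) M) S :=
    suppIn_of_iso eQ hsupp
  have hsuppK : SuppIn (kernel ev) S := suppIn_of_mono (kernel.ι ev) hsuppQ
  haveI hK1 : Subsingleton (Coh.HH X K.X₁ 1) := hsuppK.subsingleton_HH hS hcl 0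
  have hsurjev : Function.Surjective (hmap k ev 0) := fun v =>
    ((exact_g_δ k hK 0) v).1 (Subsingleton.elim _ _)
  by_contra hcon
  push Not at hcon
  have hall : ∀ v, hmap k (valueAt (ptIdeal hx) (CohB1.tensorMod L M)) 0 v = 0 := fun v =>
    (CurveCoh.valueAt_hmap_eq_zero hx hM' v).2 (hcon _)
  haveI hsub : Subsingleton (Coh.HH X (CohB1.tensorMod (ClSub.quotMod (ptIdeal hx))
      (CohB1.tensorMod L M)) 0) := by
    refine subsingleton_of_forall_eq 0 fun v => ?_
    obtain ⟨q, rfl⟩ := hsurjev v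
    obtain ⟨w, rfl⟩ := hsurj0 q
    rw [hmap_comp, hev]
    exact hall w
  have hSx : ((ptIdeal hx).support : Set X).Finite := (ptIdeal_support hx) ▸ Set.finite_singleton x
  have hclx : ∀ y ∈ ((ptIdeal hx).support : Set X), IsClosed ({y} : Set X) := fun y hy => by
    rw [ptIdeal_support hx, Set.mem_singleton_iff] at hy; exact hy ▸ hx
  obtain ⟨e⟩ := (suppIn_quotMod (ptIdeal hx)).nonempty_iso_tensorMod (L := CohB1.tensorMod L M) hSx hclx hM'
  have hz := ((suppIn_quotMod (ptIdeal hx)).isZero hSx hclx ((hEquiv k e 0).injective.subsingleton))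
  exact valueAt_ne_zero hx hM' ((hz.of_iso e.symm).eq_zero_of_tgt _)

variable [IsReduced X]

/-- Positive degree on every one-dimensional component implies semiample, on a reduced scheme. -/
theorem exists_genSet_mem (hdim : topologicalKrullDim X ≤ 1) {L : X.Modules} (hL : PicF.IsInvertible L)
    (hpos : ∀ (Z : Scheme.{u}) (j : Z ⟶ X) [IsClosedImmersion j] [IsIntegral Z],
      topologicalKrullDim Z = 1 →
        0 < @Curv2.deg k _ Z ⟨j ≫ (X ↘ Spec (CommRingCat.of k))⟩ ((Scheme.Modules.pullback j).obj L) 1)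
    (x : X) : ∃ G ∈ Amp73.GenSet L, x ∈ G := by
  classical
  haveI := isNoetherian_of_proper k X
  obtain ⟨y, hy, hxy⟩ := exists_isClosed_specializes x
  suffices h : ∃ G ∈ Amp73.GenSet L, y ∈ G by
    obtain ⟨G, hG, hyG⟩ := h
    exact ⟨G, hG, hxy.mem_open G.2 hyG⟩
  let Mx : Set X := {η | ∀ x' : X, x' ⤳ η → x' = η}
  have hMx : Mx.Finite := by
    refine Set.Finite.of_finite_image (f := fun η => closure ({η} : Set X)) ?_ ?_
    · refine NoetherianSpace.finite_irreducibleComponents.subset ?_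
      rintro _ ⟨η, hη, rfl⟩
      refine ⟨isIrreducible_singleton.closure, fun C hC hle => ?_⟩
      obtain ⟨g, hg⟩ := QuasiSober.sober (hC.closure) isClosed_closure
      have h1 : g ⤳ η := hg.specializes (subset_closure (hle (subset_closure rfl)))
      show C ⊆ closure ({η} : Set X)
      rw [← hη g h1, hg.def]
      exact subset_closure
    · exact fun a _ b _ h => Inseparable.eq (inseparable_iff_closure_eq.2 h)
  choose N hN using fun η : Mx => exists_section_component k hdim hL hpos η.2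
  haveI := hMx.fintype
  let n := (∑ η, N η) + 1
  choose t ht ht' using fun η => hN η n ((Finset.single_le_sum (fun _ _ => Nat.zero_le _)
    (Finset.mem_univ η)).trans (Nat.le_succ _))
  let M₀ := CohB1.tensorPow L n
  have hM₀ : PicF.IsInvertible M₀ := EGA73.isInvertible_tensorPow hL n
  let σ : Γ(M₀, ⊤) := ∑ η, t η
  let s := Var76.Frames.ofSection M₀ σ
  have hsη : ∀ η : Mx, η.1 ∈ CohB1.genLocus M₀ s := by
    intro η
    obtain ⟨U, hηU, -, e, he⟩ := Mero90.exists_affine_frame hM₀ η.1 ⊤ trivial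
    choose c hc using fun ξ => (he U.1 le_rfl).2 (res M₀ le_top (t ξ))
    have hc' : ∀ ξ, c ξ • e = val M₀ (Var76.Frames.ofSection M₀ (t ξ)) U.1 := fun ξ => by
      rw [Var76.Frames.val_ofSection]
      exact ((congrArg (c ξ • ·) (Amp73.res_self _ _)).symm.trans (hc ξ))
    have hσ : (∑ ξ, c ξ) • e = val M₀ s U.1 := by
      rw [Var76.Frames.val_ofSection, Finset.sum_smul]
      simp only [hc', Var76.Frames.val_ofSection]
      exact (map_sum (M₀.presheaf.map (homOfLE (le_top : U.1 ≤ ⊤)).op).hom _ _).symm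
    have hu : IsUnit (X.presheaf.germ U.1 η.1 hηU (∑ ξ, c ξ)) := by
      have hη : IsUnit (X.presheaf.germ U.1 η.1 hηU (c η)) :=
        (X.mem_basicOpen _ _ hηU).1 ((Amp73.genLocus_inf_eq_basicOpen _ he (hc' η)).le ⟨ht η, hηU⟩)
      have hne : ∀ ξ ≠ η, X.presheaf.germ U.1 η.1 hηU (c ξ) ∈ IsLocalRing.maximalIdeal _ := fun ξ hne h =>
        ht' ξ η.1 η.2 (fun h' => hne (Subtype.ext h').symm)
          ((Amp73.genLocus_inf_eq_basicOpen _ he (hc' ξ)).ge ((X.mem_basicOpen _ _ hηU).2 h)).1
      rw [map_sum, ← Finset.add_sum_erase _ _ (Finset.mem_univ η)]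
      by_contra hnu
      refine (IsLocalRing.mem_maximalIdeal _).1 ?_ hη
      have hr := Ideal.sum_mem (IsLocalRing.maximalIdeal _) (t := Finset.univ.erase η)
        (f := fun ξ => X.presheaf.germ U.1 η.1 hηU (c ξ)) fun ξ hξ => hne ξ (Finset.mem_erase.1 hξ).1
      have := Ideal.sub_mem _ (show _ ∈ IsLocalRing.maximalIdeal _ from hnu) hr
      rwa [add_sub_cancel_right] at this
    exact ((Amp73.genLocus_inf_eq_basicOpen _ he hσ).ge ((X.mem_basicOpen _ _ hηU).2 hu)).1
  let S : Set X := ((CohB1.genLocus M₀ s : X.Opens) : Set X)ᶜ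
  have hScl : ∀ z ∈ S, IsClosed ({z} : Set X) := fun z hz => by
    obtain ⟨ζ, hζ, hζz⟩ := exists_maximal z
    exact Crv77.isClosed_singleton_of_generalization hdim hζz fun h => hz (h ▸ hsη ⟨ζ, hζ⟩)
  have hSfin : S.Finite := by
    have h1 := Crv77.finite_inter_of_forall_closed (CohB1.genLocus M₀ s).2.isClosed_compl (⊤ : X.Opens)
      fun z hz => hScl z hz.1
    simpa [S] using h1
  haveI : Mono s := mono_of_dense hM₀ s fun η hη => hsη ⟨η, hη⟩
  have hsupp : SuppIn (cokernel s) S := suppIn_cokernel s fun z hz => by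
    obtain ⟨V, hzV, hV⟩ := Amp73.mem_genLocus_iff.1 (not_not.1 hz)
    intro ε
    obtain ⟨W, hzW, m, rfl⟩ := QC70.germM_exist ε
    obtain ⟨a, ha⟩ := (hV (W ⊓ V) inf_le_right).2 (res M₀ inf_le_left m)
    refine ⟨QC70.germM (Coh.structureModule X) (W ⊓ V) z ⟨hzW, hzV⟩
      (a : Γ(Coh.structureModule X, W ⊓ V)), ?_⟩
    rw [QC70.stalkMapM_germ]
    refine (congrArg (QC70.germM M₀ (W ⊓ V) z ⟨hzW, hzV⟩) ?_).trans (QC70.germM_res inf_le_left ⟨hzW, hzV⟩ m)
    rw [Amp73.app_eq_smul_val]
    refine Eq.trans ?_ ha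
    dsimp only
    rw [res_val]
  by_cases hyS : y ∈ CohB1.genLocus M₀ s
  · exact ⟨_, Amp73.mem_genSet_of_tensorPow (Nat.succ_pos _) (Amp73.mem_genSet_one s), hyS⟩
  -- stabilisation of `h¹`
  let P : ℕ → X.Modules := iterTens M₀
  have hP : ∀ j, PicF.IsInvertible (P j) := fun j => by
    induction j with
    | zero => exact EGA73.isInvertible_structureModule
    | succ j ih => exact EGA73.isInvertible_tensorMod hM₀ ih
  let d : ℕ → ℕ := fun j => Module.finrank k (Coh.HH X (iterTens M₀ j) 1)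
  obtain ⟨j, hj⟩ : ∃ j, d j ≤ d (j + 1) := by
    by_contra hcon
    push Not at hcon
    have : ∀ j, d j + j ≤ d 0 := fun j => by
      induction j with
      | zero => simp
      | succ j ih => have := hcon j; omega
    have := this (d 0 + 1)
    omega
  obtain ⟨t', ht'⟩ := exists_gen_of_h1_eq k hdim hM₀ (hP j) s hSfin hScl hsupp hj hy hyS
  have e : ∀ j, Nonempty (P j ≅ CohB1.tensorPow M₀ j) := fun j => by
    induction j with
    | zero => exact ⟨Iso.refl _⟩
    | succ j ih => exact ⟨EGA73.tensComm _ _ ≪≫ EGA73.tensIso ih.some (Iso.refl _)⟩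
  obtain ⟨e'⟩ := e (j + 1)
  refine ⟨_, Amp73.mem_genSet_of_tensorPow (Nat.succ_pos _)
    (⟨j, Var76.Frames.ofSection (P (j + 1)) t' ≫ e'.hom, rfl⟩ :
      CohB1.genLocus _ (Var76.Frames.ofSection (P (j + 1)) t' ≫ e'.hom) ∈ Amp73.GenSet M₀), ?_⟩
  rw [Amp73.genLocus_comp_iso]
  exact ht'

end Groth.Agent.Curves2.Ample
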